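import Cfsg.Agent.H671.H5Facts
import Mathlib.Data.Nat.PrimeFin
import Cfsg.Agent.H730.Hit.Count_m3
import Cfsg.Agent.S0848
import Cfsg.Agent.Characters.CCCounting
import Cfsg.Agent.Characters.CCEstimates
import Mathlib.GroupTheory.Sylow
import Mathlib.GroupTheory.IndexNormal
import Cfsg.Agent.H678.SuzGraph
import Cfsg.Agent.FastGrp
import Cfsg.Agent.Prune
set_option linter.all false

section
prune_inst 0x7ffefffdefa8afffffff7e3ffed9dffff3cccfffefdffbfbffe9fbbfef9fa323b9e56b8d7de058ff8e77e2b638b87853fb7eeeffec6fdc7ffffdfff45ffbee4ff5f7bd0951d68c340fbc2fffe3f1778a6f3fffffffffffffffffffffffffffffffffffffffff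

-- part: H670/Reg/Defs
section
set_option linter.all false

/-!
# 3-regular degree graphs (S4919): the facts on simple groups (helper670)

* `Kite S` : the degree graph of `S` contains two triangles with a common edge, or a vertex with four neighbours;
* `Hit A S` : above an irreducible character of a normal subgroup with quotient `S` some ratio of degrees is divisible by
  a member of `A`;
* `OutHit A S` : the same for outer primes;
* `Paw S` : a triangle `a, b, c` with `a` joined to `r` such that `Hit {a, b}`, `OutHit {a, b}`;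
* `FactKiteBig`, `FactKiteFour` : simple groups with five or six, with four prime divisors;
* `FactOdd`, `FactEven` : ratios of degrees above `PSL(2, q)`.
-/

set_option autoImplicit false

namespace Cfsg.Agent.H670.Reg

open Cfsg Cfsg.Agent.H671.H5

universe u v

/-- Two triangles with a common edge, or a vertex with four neighbours. -/
def Kite (S : Type v) [Group S] : Prop :=
  (∃ u v w z : ℕ, w ≠ z ∧ Adj u v S ∧ Adj u w S ∧ Adj v w S ∧ Adj u z S ∧ Adj v z S) ∨
  (∃ u a b c d : ℕ, a ≠ b ∧ a ≠ c ∧ a ≠ d ∧ b ≠ c ∧ b ≠ d ∧ c ≠ d ∧ Adj u a S ∧ Adj u b S ∧ Adj u c S ∧ Adj u d S)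

/-- Over every irreducible character `θ` of a normal subgroup `M` of `X` with `X / M ≅ S` there is an irreducible
character `χ` of `X` such that `χ(1) / θ(1)` is divisible by a member of `A`. -/
def Hit (A : Set ℕ) (S : Type v) [Group S] : Prop :=
  ∀ (X : Type u) [Group X] [Finite X] (M : Subgroup X) [M.Normal] [Fintype M], Nonempty (X ⧸ M ≃* S) →
    ∀ θ : IrrCharacter M, ∃ χ : IrrCharacter X,
      classInner (fun m : M => (χ : X → ℂ) m) (θ : M → ℂ) ≠ 0 ∧
      ∃ d p : ℕ, p ∈ A ∧ p ∣ d ∧ charDegree (χ : X → ℂ) = d * charDegree (θ : M → ℂ)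

/-- Outer primes (not dividing `|S|`). -/
def OutHit (A : Set ℕ) (S : Type v) [Group S] : Prop :=
  ∀ (Γ : Type u) [Group Γ] [Finite Γ] (N : Subgroup Γ) [N.Normal], Nonempty (N ≃* S) →
    Subgroup.centralizer (N : Set Γ) = ⊥ → ∀ t : ℕ, t.Prime → t ∣ N.index → ¬ t ∣ Nat.card S →
      ∃ p ∈ A, ∃ d ∈ charDegrees Γ, t * p ∣ d

/-- The degree graph contains a triangle `a, b, c` with `a` joined to `r`, and no irreducible character below `S` has only
ratios prime to `a` and `b`. -/
def Paw (S : Type v) [Group S] : Prop :=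
  ∃ a b c r : ℕ, a ≠ r ∧ b ≠ r ∧ c ≠ r ∧ Adj a b S ∧ Adj a c S ∧ Adj b c S ∧ Adj a r S ∧
    Hit.{u, v} {a, b} S ∧ OutHit.{u, v} {a, b} S

/-- Five or six prime divisors. -/
def FactKiteBig : Prop := ∀ (S : Type v) [Group S] [Finite S] [IsSimpleGroup S], ¬ IsMulCommutative S →
  ¬ IsL2 S → 5 ≤ (Nat.card S).primeFactors.card → (Nat.card S).primeFactors.card ≤ 6 → Kite S

/-- Four prime divisors. -/
def FactKiteFour : Prop := ∀ (S : Type v) [Group S] [Finite S] [IsSimpleGroup S], ¬ IsMulCommutative S →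
  ¬ IsL2 S → (Nat.card S).primeFactors.card = 4 → Kite S ∨ Paw.{u, v} S

/-- `X / M ≅ PSL(2, q)`, `q ≥ 7` odd: some ratio is even, or some ratio is divisible by all odd primes dividing
`|PSL(2, q)|`. -/
def FactOdd : Prop := ∀ (X : Type u) [Group X] [Finite X] (M : Subgroup X) [M.Normal] [Fintype M] (F : Type) [Field F]
  [Fintype F], Odd (Fintype.card F) → 7 ≤ Fintype.card F → ∀ _ : X ⧸ M ≃* Matrix.ProjectiveSpecialLinearGroup (Fin 2) F,
  ∀ θ : IrrCharacter M, ∃ χ : IrrCharacter X, classInner (fun m : M => (χ : X → ℂ) m) (θ : M → ℂ) ≠ 0 ∧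
    ∃ d : ℕ, charDegree (χ : X → ℂ) = d * charDegree (θ : M → ℂ) ∧
      (2 ∣ d ∨ ∀ p : ℕ, p.Prime → p ≠ 2 → p ∣ Nat.card (Matrix.ProjectiveSpecialLinearGroup (Fin 2) F) → p ∣ d)

/-- `X / M ≅ PSL(2, q)`, `q ≥ 16` even: the character extends, or some ratio is divisible by `q ^ 2 - 1`, `2 (q + 1)`,
`2 (q - 1)` or by two and a prime of each of `q - 1`, `q + 1`. -/
def FactEven : Prop := ∀ (X : Type u) [Group X] [Finite X] (M : Subgroup X) [M.Normal] [Fintype M] (F : Type) [Field F]
  [Fintype F], Even (Fintype.card F) → 16 ≤ Fintype.card F →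
  ∀ _ : X ⧸ M ≃* Matrix.ProjectiveSpecialLinearGroup (Fin 2) F,
  ∀ θ : IrrCharacter M, (∃ χ : IrrCharacter X, ∀ m : M, (χ : X → ℂ) m = (θ : M → ℂ) m) ∨
    ∃ χ : IrrCharacter X, classInner (fun m : M => (χ : X → ℂ) m) (θ : M → ℂ) ≠ 0 ∧
    ∃ d : ℕ, charDegree (χ : X → ℂ) = d * charDegree (θ : M → ℂ) ∧
      (Fintype.card F ^ 2 - 1 ∣ d ∨ 2 * (Fintype.card F + 1) ∣ d ∨ 2 * (Fintype.card F - 1) ∣ d ∨
        ∃ a b : ℕ, a.Prime ∧ b.Prime ∧ a ∣ Fintype.card F - 1 ∧ b ∣ Fintype.card F + 1 ∧ 2 * a * b ∣ d)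

end Cfsg.Agent.H670.Reg
end

-- part: H404/SzPaw/Tori
section
set_option linter.all false
open scoped Cfsg.Agent.FastGrp

-- part: H404/SzPaw/Orth
section
/-!
# Counting the irreducible characters over a linear character of a central kernel

`π : Q → S` surjective with central kernel, `l` a linear character of the kernel. Second orthogonality: the sum of
`|β(g)|²` over the irreducible characters `β` over `l` is `|C_S(π g)|` if the preimage of `C_S(π g)` centralizes `g`.
-/

set_option autoImplicit false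
set_option linter.unusedSectionVars false

namespace Cfsg.Agent.H404.SzPaw

open Cfsg
open scoped ComplexConjugate
open Cfsg.Agent.Characters.Core
open Cfsg.Agent.H595.Count Cfsg.Agent.H595.Central
open Cfsg.Agent.H525.L2

universe u v

variable {Q : Type u} [Group Q] [Finite Q] {S : Type v} [Group S] {π : Q →* S} (l : π.ker →* ℂˣ)

open Classical in
theorem sum_central {χ : Q → ℂ} (hc : π.ker ≤ Subgroup.center Q) (hχ : IsIrrCharacter Q χ) [Fintype π.ker] (g : Q) :
    ∑ z : π.ker, conj (l z : ℂ) * (χ (g * z) * conj (χ g)) =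
      if Over π l χ then (Nat.card π.ker : ℂ) * (χ g * conj (χ g)) else 0 := by
  obtain ⟨c, hc', -⟩ := Cfsg.Agent.CharactersDeep.Extraspecial.exists_central_hom hχ
  let c' : π.ker →* ℂˣ := c.comp (Subgroup.inclusion hc)
  have hcc : ∀ (x : Q) (z : π.ker), χ (x * z) = χ x * c' z := fun x z =>
    hc' x (Subgroup.inclusion hc z)
  have hcard : (Nat.card π.ker : ℂ) ≠ 0 := Nat.cast_ne_zero.2 Nat.card_pos.ne'
  have h1 : ∑ z : π.ker, conj (l z : ℂ) * (χ (g * z) * conj (χ g)) =
      (Nat.card π.ker : ℂ) * (χ g * conj (χ g)) *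
        classInner (homIrr c' : π.ker → ℂ) (homIrr l : π.ker → ℂ) := by
    rw [classInner_def, mul_comm (Nat.card π.ker : ℂ), mul_assoc, ← mul_assoc (Nat.card π.ker : ℂ),
      mul_inv_cancel₀ hcard, one_mul, Finset.mul_sum]
    refine Finset.sum_congr rfl fun z _ => ?_
    rw [hcc, homIrr_apply, homIrr_apply]
    ring
  rw [h1]
  split_ifs with ho
  · have h2 : (homIrr c' : π.ker → ℂ) = (homIrr l : π.ker → ℂ) := by
      funext z
      have h3 := hcc 1 z
      rw [ho 1 z] at h3
      exact (mul_left_cancel₀ (isIrr_apply_one_ne_zero hχ) h3).symm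
    rw [h2, classInner_irr_self (homIrr l).2, mul_one]
  · rw [classInner_irr_ne (homIrr c').2 (homIrr l).2, mul_zero]
    intro h2
    apply ho
    intro a z
    rw [hcc, ← homIrr_apply c', h2, homIrr_apply]

theorem card_ker_mul (hs : Function.Surjective π) : Nat.card π.ker * Nat.card S = Nat.card Q := by
  rw [← index_eq hs, Subgroup.card_mul_index]

theorem card_comap (hs : Function.Surjective π) (H : Subgroup S) :
    Nat.card (H.comap π) = Nat.card π.ker * Nat.card H := by
  have : Finite S := Finite.of_surjective π hs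
  have h1 := Subgroup.card_mul_index (H.comap π)
  rw [Subgroup.index_comap_of_surjective H hs, ← card_ker_mul hs, ← Subgroup.card_mul_index H, ← mul_assoc] at h1
  exact Nat.eq_of_mul_eq_mul_right (Nat.pos_of_ne_zero Subgroup.index_ne_zero_of_finite) h1

/-- Second orthogonality over `l`. -/
theorem sum_mul_conj [Fintype (IrrCharacter Q)] (hs : Function.Surjective π) (hc : π.ker ≤ Subgroup.center Q) {g : Q}
    (hg : ∀ y : Q, π y * π g = π g * π y → y * g = g * y) :
    ∑ β ∈ Ov l, (β : Q → ℂ) g * conj ((β : Q → ℂ) g) =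
      (Nat.card (Subgroup.centralizer ({π g} : Set S)) : ℂ) := by
  classical
  have := Fintype.ofFinite π.ker
  have hcard : (Nat.card π.ker : ℂ) ≠ 0 := Nat.cast_ne_zero.2 Nat.card_pos.ne'
  have h1 : ∑ β : IrrCharacter Q, ∑ z : π.ker, conj (l z : ℂ) * ((β : Q → ℂ) (g * z) * conj ((β : Q → ℂ) g)) =
      (Nat.card π.ker : ℂ) * ∑ β ∈ Ov l, (β : Q → ℂ) g * conj ((β : Q → ℂ) g) := by
    rw [Finset.sum_congr rfl fun β _ => sum_central l hc β.2 g, ← Finset.sum_filter, ← Finset.mul_sum]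
    congr 1
  have h2 : ∑ β : IrrCharacter Q, ∑ z : π.ker, conj (l z : ℂ) * ((β : Q → ℂ) (g * z) * conj ((β : Q → ℂ) g)) =
      (Nat.card {a : Q // a * g * a⁻¹ = g} : ℂ) := by
    rw [Finset.sum_comm, Finset.sum_congr rfl fun z _ => (Finset.mul_sum _ _ _).symm,
      Finset.sum_congr rfl fun z _ => by rw [← Cfsg.Agent.S0848.column_orth],
      Finset.sum_eq_single (1 : π.ker)]
    · rw [map_one, Units.val_one, map_one, one_mul, Subgroup.coe_one, mul_one]
    · intro z _ hz
      have h3 : IsEmpty {a : Q // a * (g * z) * a⁻¹ = g} := by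
        constructor
        rintro ⟨a, ha⟩
        have h4 := congrArg π ha
        rw [map_mul, map_mul, map_mul, map_inv, MonoidHom.mem_ker.1 z.2, mul_one,
          mul_inv_eq_iff_eq_mul] at h4
        have h5 := hg a h4
        rw [← mul_assoc, h5, mul_assoc, mul_assoc, ← Subgroup.mem_center_iff.1 (hc z.2) a⁻¹,
          mul_inv_cancel_left] at ha
        exact hz (Subtype.ext (mul_eq_left.1 ha))
      rw [Nat.card_of_isEmpty, Nat.cast_zero, mul_zero]
    · intro h
      exact absurd (Finset.mem_univ _) h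
  have h3 : Nat.card {a : Q // a * g * a⁻¹ = g} =
      Nat.card π.ker * Nat.card (Subgroup.centralizer ({π g} : Set S)) := by
    rw [← card_comap hs]
    refine Nat.card_congr (Equiv.subtypeEquivRight fun a => ?_)
    rw [mul_inv_eq_iff_eq_mul, Subgroup.mem_comap, Subgroup.mem_centralizer_singleton_iff]
    constructor
    · intro h
      rw [← map_mul, ← map_mul, h]
    · exact hg a
  rw [h1, h3, Nat.cast_mul] at h2
  exact mul_left_cancel₀ hcard h2

/-- The sum of `|β(g)|²` over the irreducible characters over `l`. -/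
noncomputable def Fn [Fintype (IrrCharacter Q)] (g : Q) : ℝ := ∑ β ∈ Ov l, Complex.normSq ((β : Q → ℂ) g)

theorem Fn_nonneg [Fintype (IrrCharacter Q)] (g : Q) : 0 ≤ Fn l g :=
  Finset.sum_nonneg fun _ _ => Complex.normSq_nonneg _

theorem Fn_eq [Fintype (IrrCharacter Q)] (hs : Function.Surjective π) (hc : π.ker ≤ Subgroup.center Q) {g : Q}
    (hg : ∀ y : Q, π y * π g = π g * π y → y * g = g * y) :
    Fn l g = Nat.card (Subgroup.centralizer ({π g} : Set S)) := by
  have h1 := sum_mul_conj l hs hc hg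
  simp only [Complex.mul_conj] at h1
  unfold Fn
  exact_mod_cast h1

theorem Fn_mul_ker [Fintype (IrrCharacter Q)] (g : Q) (z : π.ker) : Fn l (g * z) = Fn l g := by
  unfold Fn
  refine Finset.sum_congr rfl fun β hβ => ?_
  rw [(mem_Ov l).1 hβ g z, Complex.normSq_mul]
  have h1 : Complex.normSq (l z : ℂ) = 1 := by
    have h2 : (l z : ℂ) ^ Nat.card π.ker = 1 := by
      rw [← Units.val_pow_eq_pow_val, ← map_pow, pow_card_eq_one', map_one, Units.val_one]
    have h3 := Complex.norm_eq_one_of_pow_eq_one h2 Nat.card_pos.ne'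
    rw [Complex.normSq_eq_norm_sq, h3, one_pow]
  rw [h1, mul_one]

theorem Fn_congr [Fintype (IrrCharacter Q)] {g h : Q} (hgh : π g = π h) : Fn l g = Fn l h := by
  have h1 : h⁻¹ * g ∈ π.ker := by
    rw [MonoidHom.mem_ker, map_mul, map_inv, hgh, inv_mul_cancel]
  have h2 := Fn_mul_ker l h ⟨_, h1⟩
  rwa [mul_inv_cancel_left] at h2

theorem Fn_conj [Fintype (IrrCharacter Q)] (g h : Q) : Fn l (h * g * h⁻¹) = Fn l g := by
  unfold Fn
  refine Finset.sum_congr rfl fun β _ => ?_
  rw [isIrr_isClassFunction β.2 g h]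

theorem Fn_one [Fintype (IrrCharacter Q)] (hs : Function.Surjective π) (hc : π.ker ≤ Subgroup.center Q) :
    Fn l 1 = Nat.card S := by
  rw [← sum_sq l hs hc]
  unfold Fn
  push_cast
  refine Finset.sum_congr rfl fun β _ => ?_
  rw [(deg_spec β.2).1, Complex.normSq_natCast]
  ring

end Cfsg.Agent.H404.SzPaw
end

-- part: H404/SzPaw/Upper
section
/-!
# The number of irreducible characters over `l`, from above

If the cyclic CC-subgroup `T` of `S` has order `n` and no degree over `l` is divisible by `n`, there are at most `n`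
irreducible characters over `l`.
-/

set_option autoImplicit false
set_option linter.unusedSectionVars false

namespace Cfsg.Agent.H404.SzPaw

open Cfsg
open scoped ComplexConjugate
open Cfsg.Agent.Characters.Core Cfsg.Agent.Characters.CCBasic
open Cfsg.Agent.H595.Count Cfsg.Agent.H595.Central
open Cfsg.Agent.H525.L2

universe u v

theorem ineq {ι : Type*} (M : Finset ι) (a : ι → ℕ) {p d : ℕ} (hp : 0 < p) (hM : M.card ≤ p)
    (hd : ∑ i ∈ M, a i = d) (hnd : ¬ p ∣ d) : d ^ 2 + p ≤ p * ∑ i ∈ M, a i ^ 2 + 1 := by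
  obtain ⟨t, ht⟩ : ∃ t : ℤ, t = ((d / p : ℕ) : ℤ) := ⟨_, rfl⟩
  obtain ⟨r, hr⟩ : ∃ r : ℤ, r = ((d % p : ℕ) : ℤ) := ⟨_, rfl⟩
  have ht0 : 0 ≤ t := by rw [ht]; positivity
  have hr1 : 1 ≤ r := by
    have : d % p ≠ 0 := fun h => hnd (Nat.dvd_of_mod_eq_zero h)
    rw [hr]
    omega
  have hr2 : r ≤ p - 1 := by
    have := Nat.mod_lt d hp
    rw [hr]
    omega
  have hD : (d : ℤ) = p * t + r := by
    rw [ht, hr]
    exact_mod_cast (Nat.div_add_mod d p).symm
  have h1 : ∑ i ∈ M, ((a i : ℤ) - t) ≤ ∑ i ∈ M, ((a i : ℤ) - t) ^ 2 :=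
    Finset.sum_le_sum fun i _ => Int.le_self_sq _
  have h2 : ∑ i ∈ M, ((a i : ℤ) - t) = d - M.card * t := by
    rw [Finset.sum_sub_distrib, Finset.sum_const, nsmul_eq_mul, ← hd]
    push_cast
    rfl
  have h3 : ∑ i ∈ M, ((a i : ℤ) - t) ^ 2 = ∑ i ∈ M, (a i : ℤ) ^ 2 - 2 * t * d + M.card * t ^ 2 := by
    have e : ∀ i ∈ M, ((a i : ℤ) - t) ^ 2 = (a i : ℤ) ^ 2 - 2 * t * a i + t ^ 2 := fun i _ => by ring
    rw [Finset.sum_congr rfl e, Finset.sum_add_distrib, Finset.sum_sub_distrib, ← Finset.mul_sum,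
      Finset.sum_const, nsmul_eq_mul, ← hd]
    push_cast
    rfl
  rw [h2, h3] at h1
  have hMz : (M.card : ℤ) ≤ p := by exact_mod_cast hM
  have h4 : (M.card : ℤ) * (t + t ^ 2) ≤ p * (t + t ^ 2) := by
    apply mul_le_mul_of_nonneg_right hMz
    (clear * - ht0; positivity)
  have h5 : (d : ℤ) * (1 + 2 * t) - p * (t + t ^ 2) ≤ ∑ i ∈ M, (a i : ℤ) ^ 2 := by linarith only [h1, h4]
  have hpz : (0 : ℤ) ≤ p := by positivity
  have h6 := mul_le_mul_of_nonneg_left h5 hpz
  have h7 : (0 : ℤ) ≤ (r - 1) * (p - 1 - r) := mul_nonneg (by linarith only [hr1]) (by linarith only [hr2])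
  have h8 : (d : ℤ) ^ 2 + p ≤ p * ∑ i ∈ M, (a i : ℤ) ^ 2 + 1 := by
    rw [hD] at h6 ⊢
    linarith only [h6, h7]
  exact_mod_cast h8

variable {Q : Type u} [Group Q] [Finite Q] {S : Type v} [Group S] {π : Q →* S} (l : π.ker →* ℂˣ)

/-- The preimage of a cyclic subgroup is abelian. -/
theorem comm_comap (hc : π.ker ≤ Subgroup.center Q) (T : Subgroup S) [hT : IsCyclic T] :
    ∀ x ∈ T.comap π, ∀ y ∈ T.comap π, x * y = y * x := by
  intro x hx y hy
  let f : T.comap π →* T := (π.comp (T.comap π).subtype).codRestrict T (fun v => v.2)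
  have hf : f.ker ≤ Subgroup.center (T.comap π) := by
    intro z hz
    have h1 : (z : Q) ∈ π.ker := congrArg Subtype.val (MonoidHom.mem_ker.1 hz)
    rw [Subgroup.mem_center_iff]
    intro g
    exact Subtype.ext (Subgroup.mem_center_iff.1 (hc h1) g)
  have h1 := MonoidHom.isMulCommutative_of_isCyclic_of_ker_le_center f hf
  have h2 := h1.is_comm.comm (⟨x, hx⟩ : T.comap π) ⟨y, hy⟩
  exact congrArg Subtype.val h2

theorem norm_ge (hs : Function.Surjective π) (hc : π.ker ≤ Subgroup.center Q) {T : Subgroup S} [IsCyclic T]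
    {V : Subgroup Q} (hV : V = T.comap π) [Fintype V] {β : IrrCharacter Q} (hβ : Over π l (β : Q → ℂ))
    (hnd : ¬ Nat.card T ∣ charDegree (β : Q → ℂ)) :
    (Nat.card π.ker : ℝ) * ((charDegree (β : Q → ℂ) : ℝ) ^ 2 + (Nat.card T - 1)) ≤
      ∑ v : V, Complex.normSq ((β : Q → ℂ) v) := by
  classical
  have hfS : Finite S := Finite.of_surjective π hs
  have hcomm := comm_comap hc T
  rw [← hV] at hcomm
  have hVm : ∀ v : V, π v ∈ T := fun v => hV.le v.2
  have := finite_irr (G := V)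
  have := Fintype.ofFinite (IrrCharacter V)
  let f : V → ℂ := (β : Q → ℂ) ∘ V.subtype
  have hf : IsCharacter V f := isCharacter_comp V.subtype (isIrr_isCharacter β.2)
  obtain ⟨a, ha⟩ := exists_nat_comb hf
  have hcoef : ∀ μ : IrrCharacter V, classInner f (μ : V → ℂ) = a μ := by
    intro μ
    conv_lhs => rw [ha]
    exact classInner_sum_nsmul_irr a μ
  let πV : V →* T := (π.comp V.subtype).codRestrict T hVm
  have hπs : Function.Surjective πV := by
    rintro ⟨t, ht⟩
    obtain ⟨x, rfl⟩ := hs t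
    exact ⟨⟨x, by rw [hV]; exact ht⟩, rfl⟩
  have hmem : ∀ z : V, z ∈ πV.ker → (z : Q) ∈ π.ker := fun z hz => congrArg Subtype.val (MonoidHom.mem_ker.1 hz)
  let kf : πV.ker →* π.ker := (V.subtype.comp πV.ker.subtype).codRestrict π.ker (fun z => hmem z z.2)
  let lV : πV.ker →* ℂˣ := l.comp kf
  have hone : ∀ μ : IrrCharacter V, (μ : V → ℂ) 1 = 1 := fun μ =>
    irr_apply_one_of_comm (fun a b => Subtype.ext (hcomm a a.2 b b.2)) μ.2
  -- the irreducible characters over `l`
  have hM : (Ov lV).card ≤ Nat.card T := by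
    have hcV : πV.ker ≤ Subgroup.center V := by
      intro z hz
      rw [Subgroup.mem_center_iff]
      intro g
      exact Subtype.ext (hcomm g g.2 z z.2)
    rw [← sum_sq lV hπs hcV, Finset.card_eq_sum_ones]
    exact Finset.sum_le_sum fun μ _ => Nat.one_le_pow _ _ (deg_spec μ.2).2
  have hker : ∀ z : π.ker, (z : Q) ∈ V := fun z => by
    rw [hV, Subgroup.mem_comap, MonoidHom.mem_ker.1 z.2]
    exact T.one_mem
  have hsupp : ∀ μ : IrrCharacter V, μ ∉ Ov lV → a μ = 0 := by
    intro μ hμ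
    by_contra h0
    apply hμ
    rw [mem_Ov]
    obtain ⟨g, hg⟩ := exists_hom_of_comm (fun a b => Subtype.ext (hcomm a a.2 b b.2)) μ.2
    intro v z
    have h1 : classInner f (μ : V → ℂ) =
        (l (kf z) : ℂ) * conj (g z : ℂ) * classInner f (μ : V → ℂ) := by
      have e0 : ∑ v : V, f v * conj ((μ : V → ℂ) v) =
          (l (kf z) : ℂ) * conj (g z : ℂ) * ∑ v : V, f v * conj ((μ : V → ℂ) v) := by
        rw [Finset.mul_sum]
        conv_lhs => rw [← Equiv.sum_comp (Equiv.mulRight (z : V))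
          (fun v => f v * conj ((μ : V → ℂ) v))]
        refine Finset.sum_congr rfl fun v _ => ?_
        have e1 : f (v * z) = f v * l (kf z) := hβ v (kf z)
        show f (v * z) * conj ((μ : V → ℂ) (v * z)) = _
        rw [e1, hg]
        show f v * (l (kf z) : ℂ) * conj ((g (v * z) : ℂˣ) : ℂ) = _
        rw [map_mul, Units.val_mul, map_mul]
        ring
      rw [classInner_def]
      conv_lhs => rw [e0]
      ring
    rw [hcoef] at h1
    have h2 : (l (kf z) : ℂ) * conj (g z : ℂ) = 1 := by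
      have h3 : (a μ : ℂ) ≠ 0 := Nat.cast_ne_zero.2 h0
      exact (mul_right_cancel₀ h3 (by rw [one_mul]; exact h1)).symm
    have h4 : (g z : ℂ) * conj (g z : ℂ) = 1 := by
      have h5 : (g z : ℂ) ^ Nat.card V = 1 := by
        rw [← Units.val_pow_eq_pow_val, ← map_pow, pow_card_eq_one', map_one, Units.val_one]
      rw [Complex.mul_conj, Complex.normSq_eq_norm_sq, Complex.norm_eq_one_of_pow_eq_one h5 Nat.card_pos.ne']
      norm_num
    have h6 : (l (kf z) : ℂ) = g z := by
      have h7 : conj (g z : ℂ) ≠ 0 := by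
        intro h
        rw [h, mul_zero] at h4
        exact zero_ne_one h4
      exact mul_right_cancel₀ h7 (h2.trans h4.symm)
    show (μ : V → ℂ) (v * z) = (μ : V → ℂ) v * (l (kf z) : ℂ)
    rw [h6, hg]
    show ((g (v * z) : ℂˣ) : ℂ) = (g v : ℂ) * (g z : ℂ)
    rw [map_mul, Units.val_mul]
  have hsumT : ∀ b : ℕ → ℕ, b 0 = 0 → ∑ μ, b (a μ) = ∑ μ ∈ Ov lV, b (a μ) := by
    intro b hb
    symm
    apply Finset.sum_subset (Finset.subset_univ _)
    intro μ _ hμ
    rw [hsupp μ hμ, hb]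
  have hsum : ∑ μ ∈ Ov lV, a μ = charDegree (β : Q → ℂ) := by
    have h1 : f 1 = charDegree (β : Q → ℂ) := by
      show (β : Q → ℂ) ((1 : V) : Q) = _
      rw [Subgroup.coe_one, (deg_spec β.2).1]
    have h2 := congrFun ha 1
    rw [h1, Finset.sum_apply] at h2
    have h3 : ∀ μ : IrrCharacter V, (a μ • (μ : V → ℂ)) 1 = (a μ : ℂ) := by
      intro μ
      rw [Pi.smul_apply, hone, nsmul_eq_mul, mul_one]
    rw [Finset.sum_congr rfl fun μ _ => h3 μ, ← Nat.cast_sum] at h2
    have h4 : ∑ μ, a μ = charDegree (β : Q → ℂ) := by exact_mod_cast h2.symm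
    rw [← h4]
    exact (hsumT id rfl).symm
  have h5 := ineq (Ov lV) a (p := Nat.card T) Nat.card_pos hM hsum hnd
  -- the norm
  have hnorm : ∑ v : V, Complex.normSq ((β : Q → ℂ) v) = (Nat.card V : ℝ) * (∑ μ ∈ Ov lV, a μ ^ 2 : ℕ) := by
    have h6 : classInner f f = ((∑ μ ∈ Ov lV, a μ ^ 2 : ℕ) : ℂ) := by
      have e1 : f = ∑ μ : IrrCharacter V, (a μ : ℂ) • (μ : V → ℂ) := by
        simp only [Nat.cast_smul_eq_nsmul]
        exact ha
      have e2 : classInner f f = ∑ μ : IrrCharacter V, (a μ : ℂ) * conj (a μ : ℂ) := by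
        conv_lhs => rw [e1]
        exact classInner_sum_smul_sum_smul _ _
      rw [e2, ← hsumT (fun n => n ^ 2) rfl]
      push_cast
      refine Finset.sum_congr rfl fun μ _ => ?_
      rw [map_natCast, pow_two]
    rw [classInner_self_eq_ofReal] at h6
    have h7 : (Nat.card V : ℝ)⁻¹ * ∑ g : V, Complex.normSq (f g) = ((∑ μ ∈ Ov lV, a μ ^ 2 : ℕ) : ℝ) := by
      exact_mod_cast h6
    have h8 : (Nat.card V : ℝ) ≠ 0 := Nat.cast_ne_zero.2 Nat.card_pos.ne'
    rw [← h7, mul_inv_cancel_left₀ h8]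
    rfl
  have hcV : Nat.card V = Nat.card π.ker * Nat.card T := by rw [hV, card_comap hs]
  rw [hnorm, hcV, Nat.cast_mul, mul_assoc]
  apply mul_le_mul_of_nonneg_left _ (Nat.cast_nonneg _)
  have h9 : ((charDegree (β : Q → ℂ) ^ 2 + Nat.card T : ℕ) : ℝ) ≤
      ((Nat.card T * ∑ μ ∈ Ov lV, a μ ^ 2 + 1 : ℕ) : ℝ) := by exact_mod_cast h5
  push_cast at h9 ⊢
  linarith only [h9]

theorem sum_split {V : Type*} [Fintype V] (P : V → Prop) [DecidablePred P] (F : V → ℝ) {a b : ℝ}
    (h1 : ∀ v, P v → F v = a) (h2 : ∀ v, ¬ P v → F v = b) :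
    ∑ v, F v = (Finset.univ.filter P).card * a + (Fintype.card V - (Finset.univ.filter P).card) * b := by
  rw [← Finset.sum_filter_add_sum_filter_not Finset.univ P,
    Finset.sum_congr rfl fun v hv => h1 v (Finset.mem_filter.1 hv).2,
    Finset.sum_congr rfl fun v hv => h2 v (Finset.mem_filter.1 hv).2, Finset.sum_const, Finset.sum_const,
    nsmul_eq_mul, nsmul_eq_mul]
  have h3 := Finset.card_filter_add_card_filter_not (s := (Finset.univ : Finset V)) P
  rw [Finset.card_univ] at h3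
  rw [← h3]
  push_cast
  ring

/-- At most `|T|` irreducible characters over `l`, if no degree is divisible by `|T|`. -/
theorem card_Ov_le [Fintype (IrrCharacter Q)] (hs : Function.Surjective π) (hc : π.ker ≤ Subgroup.center Q)
    {T : Subgroup S} [IsCyclic T] (hcc : IsCC T)
    (hnd : ∀ β ∈ Ov l, ¬ Nat.card T ∣ charDegree (β : Q → ℂ)) : (Ov l).card ≤ Nat.card T := by
  classical
  have hfS : Finite S := Finite.of_surjective π hs
  have hcomm := comm_comap hc T
  have := Fintype.ofFinite (T.comap π)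
  have hk0 : (0 : ℝ) < Nat.card π.ker := Nat.cast_pos.2 Nat.card_pos
  have h1 : (Nat.card π.ker : ℝ) * (Nat.card S + (Ov l).card * (Nat.card T - 1)) ≤
      ∑ v : T.comap π, Fn l (v : Q) := by
    have e1 : ∑ v : T.comap π, Fn l (v : Q) = ∑ β ∈ Ov l, ∑ v : T.comap π, Complex.normSq ((β : Q → ℂ) v) := by
      unfold Fn
      rw [Finset.sum_comm]
    have e2 : (Nat.card π.ker : ℝ) * (Nat.card S + (Ov l).card * (Nat.card T - 1)) =
        ∑ β ∈ Ov l, (Nat.card π.ker : ℝ) * ((charDegree (β : Q → ℂ) : ℝ) ^ 2 + (Nat.card T - 1)) := by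
      rw [← Finset.mul_sum, Finset.sum_add_distrib, Finset.sum_const, nsmul_eq_mul]
      congr 2
      rw [← sum_sq l hs hc]
      push_cast
      rfl
    rw [e1, e2]
    exact Finset.sum_le_sum fun β hβ => norm_ge l hs hc rfl ((mem_Ov l).1 hβ) (hnd β hβ)
  have h2 : ∑ v : T.comap π, Fn l (v : Q) = (Nat.card π.ker : ℝ) * Nat.card S +
      ((Nat.card π.ker : ℝ) * Nat.card T - Nat.card π.ker) * Nat.card T := by
    rw [sum_split (fun v : T.comap π => π v = 1) (fun v => Fn l (v : Q)) (a := Nat.card S) (b := Nat.card T)]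
    · have e3 : (Finset.univ.filter (fun v : T.comap π => π v = 1)).card = Nat.card π.ker := by
        rw [← Fintype.card_subtype, ← Nat.card_eq_fintype_card]
        exact Nat.card_congr
          { toFun := fun v => ⟨v.1.1, v.2⟩
            invFun := fun z => ⟨⟨z.1, by rw [Subgroup.mem_comap, MonoidHom.mem_ker.1 z.2]; exact T.one_mem⟩, z.2⟩
            left_inv := fun _ => rfl
            right_inv := fun _ => rfl }
      rw [e3, ← Nat.card_eq_fintype_card, card_comap hs]
      push_cast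
      ring
    · intro v hv
      rw [Fn_congr l (h := 1) (by rw [hv, map_one]), Fn_one l hs hc]
    · intro v hv
      rw [Fn_eq l hs hc, hcc.cent (π v) v.2 hv]
      intro y hy
      exact hcomm y (hcc.mem_of_comm v.2 hv hy) v v.2
  rw [h2] at h1
  have hT2 : 2 ≤ Nat.card T := by
    have := Nat.card_pos (α := T)
    have h3 : Nat.card T ≠ 1 := fun h => hcc.ne_bot (Subgroup.card_eq_one.1 h)
    omega
  have hTr : (2 : ℝ) ≤ Nat.card T := by exact_mod_cast hT2
  have h4 : (Nat.card π.ker : ℝ) * ((Ov l).card * (Nat.card T - 1)) ≤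
      (Nat.card π.ker : ℝ) * ((Nat.card T : ℝ) * (Nat.card T - 1)) := by linarith only [h1]
  have h5 := le_of_mul_le_mul_left h4 hk0
  have h6 := le_of_mul_le_mul_right h5 (by linarith only [hTr])
  exact_mod_cast h6

end Cfsg.Agent.H404.SzPaw
end

-- part: H404/SzPaw/Lower
section
/-!
# The number of irreducible characters over `l`, from below

Every cyclic CC-subgroup `A` of `S`, `|A| = s e + 1`, `|N_S(A)| = e |A|`, contributes `s`.
-/

set_option autoImplicit false
set_option linter.unusedSectionVars false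

namespace Cfsg.Agent.H404.SzPaw

open Cfsg
open scoped ComplexConjugate
open Cfsg.Agent.Characters.Core Cfsg.Agent.Characters.CCBasic Cfsg.Agent.Characters.CCCounting
  Cfsg.Agent.Characters.CCEstimates
open Cfsg.Agent.H595.Count Cfsg.Agent.H595.Central
open Cfsg.Agent.H525.L2

universe u v

variable {Q : Type u} [Group Q] [Finite Q] {S : Type v} [Group S] {π : Q →* S} (l : π.ker →* ℂˣ)

/-- The sum of `|β|²` as a function on `S`. -/
noncomputable def Gn [Fintype (IrrCharacter Q)] (hs : Function.Surjective π) (s : S) : ℝ :=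
  Fn l (Function.surjInv hs s)

theorem Gn_apply [Fintype (IrrCharacter Q)] (hs : Function.Surjective π) (x : Q) : Gn l hs (π x) = Fn l x :=
  Fn_congr l (Function.surjInv_eq hs (π x))

theorem Gn_conj [Fintype (IrrCharacter Q)] (hs : Function.Surjective π) (g h : S) :
    Gn l hs (h * g * h⁻¹) = Gn l hs g := by
  obtain ⟨x, rfl⟩ := hs g
  obtain ⟨y, rfl⟩ := hs h
  rw [← map_inv, ← map_mul, ← map_mul, Gn_apply, Gn_apply, Fn_conj]

theorem Gn_nonneg [Fintype (IrrCharacter Q)] (hs : Function.Surjective π) (s : S) : 0 ≤ Gn l hs s :=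
  Fn_nonneg l _

theorem Gn_one [Fintype (IrrCharacter Q)] (hs : Function.Surjective π) (hc : π.ker ≤ Subgroup.center Q) :
    Gn l hs 1 = Nat.card S := by
  rw [← map_one π, Gn_apply, Fn_one l hs hc]

theorem Gn_cc [Fintype (IrrCharacter Q)] (hs : Function.Surjective π) (hc : π.ker ≤ Subgroup.center Q)
    {A : Subgroup S} [IsCyclic A] (hA : IsCC A) {a : S} (ha : a ∈ A) (ha1 : a ≠ 1) :
    Gn l hs a = Nat.card A := by
  obtain ⟨x, rfl⟩ := hs a
  rw [Gn_apply, Fn_eq l hs hc, hA.cent (π x) ha ha1]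
  intro y hy
  exact comm_comap hc A y (hA.mem_of_comm ha ha1 hy) x ha

theorem card_fiber_eq (s : S) (hs : Function.Surjective π) [Fintype Q] [DecidableEq S] :
    (Finset.univ.filter (fun x : Q => π x = s)).card = Nat.card π.ker := by
  classical
  obtain ⟨x0, rfl⟩ := hs s
  rw [← Fintype.card_subtype, ← Nat.card_eq_fintype_card]
  exact Nat.card_congr
    { toFun := fun v => ⟨x0⁻¹ * v.1, by rw [MonoidHom.mem_ker, map_mul, map_inv, v.2, inv_mul_cancel]⟩
      invFun := fun z => ⟨x0 * z.1, by rw [map_mul, MonoidHom.mem_ker.1 z.2, mul_one]⟩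
      left_inv := fun v => Subtype.ext (mul_inv_cancel_left _ _)
      right_inv := fun z => Subtype.ext (inv_mul_cancel_left _ _) }

/-- The number of irreducible characters over `l`, as a sum over `S`. -/
theorem card_Ov_mul [Fintype (IrrCharacter Q)] [Fintype S] (hs : Function.Surjective π) :
    ((Ov l).card : ℝ) * Nat.card S = ∑ s : S, Gn l hs s := by
  classical
  have := Fintype.ofFinite Q
  have h1 : ∑ x : Q, Fn l x = ((Ov l).card : ℝ) * Nat.card Q := by
    unfold Fn
    rw [Finset.sum_comm, Finset.card_eq_sum_ones, Nat.cast_sum, Finset.sum_mul]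
    refine Finset.sum_congr rfl fun β _ => ?_
    have h2 := classInner_self_eq_ofReal (β : Q → ℂ)
    rw [classInner_irr_self β.2] at h2
    have h3 : (1 : ℝ) = (Nat.card Q : ℝ)⁻¹ * ∑ g : Q, Complex.normSq ((β : Q → ℂ) g) := by exact_mod_cast h2
    have h4 : (Nat.card Q : ℝ) ≠ 0 := Nat.cast_ne_zero.2 Nat.card_pos.ne'
    rw [Nat.cast_one, h3, mul_comm ((Nat.card Q : ℝ)⁻¹ * _), mul_inv_cancel_left₀ h4]
  have h5 : ∑ x : Q, Fn l x = (Nat.card π.ker : ℝ) * ∑ s : S, Gn l hs s := by
    rw [Finset.sum_congr rfl fun x _ => (Gn_apply l hs x).symm, ← Finset.sum_fiberwise Finset.univ (fun x : Q => π x),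
      Finset.mul_sum]
    refine Finset.sum_congr rfl fun s _ => ?_
    rw [Finset.sum_congr rfl fun x hx => by rw [(Finset.mem_filter.1 hx).2], Finset.sum_const, nsmul_eq_mul,
      card_fiber_eq s hs]
  rw [h1, ← card_ker_mul hs, Nat.cast_mul, mul_left_comm] at h5
  have h6 : (Nat.card π.ker : ℝ) ≠ 0 := Nat.cast_ne_zero.2 Nat.card_pos.ne'
  exact mul_left_cancel₀ h6 h5

open scoped Classical in
/-- The contribution of a cyclic CC-subgroup. -/
theorem sum_cc [Fintype (IrrCharacter Q)] [Fintype S] (hs : Function.Surjective π) (hc : π.ker ≤ Subgroup.center Q)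
    {A : Subgroup S} [IsCyclic A] (hA : IsCC A) {s : ℕ} (h : s * len A + 1 = Nat.card A) :
    ∑ y ∈ Finset.univ.filter (fun y : S => InConj A y), Gn l hs y = s * Nat.card S := by
  have := Fintype.ofFinite A
  have h1 := sum_inConj hA (Gn l hs) (fun g h => Gn_conj l hs g h)
  have h2 : ∑ a ∈ Finset.univ.filter (fun a : A => a ≠ 1), Gn l hs (a : S) = (Nat.card A - 1) * Nat.card A := by
    have e1 : ∀ a ∈ Finset.univ.filter (fun a : A => a ≠ 1), Gn l hs (a : S) = Nat.card A := fun a ha =>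
      Gn_cc l hs hc hA a.2 (fun h => (Finset.mem_filter.1 ha).2 (Subtype.ext h))
    rw [Finset.sum_congr rfl e1, Finset.sum_const, nsmul_eq_mul]
    congr 1
    rw [Finset.filter_ne', Finset.card_erase_of_mem (Finset.mem_univ _), Finset.card_univ,
      Nat.card_eq_fintype_card, Nat.cast_sub Fintype.card_pos]
    simp
  rw [h2, ← len_mul_card] at h1
  have h3 : (Nat.card A : ℝ) ≠ 0 := Nat.cast_ne_zero.2 Nat.card_pos.ne'
  have h4 : ((len A : ℕ) : ℝ) ≠ 0 := by
    have h5 := len_mul_card A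
    intro h6
    rw [Nat.cast_eq_zero.1 h6, zero_mul] at h5
    exact Nat.card_pos.ne h5
  have h5 : (Nat.card A : ℝ) - 1 = s * len A := by
    rw [← h]
    push_cast
    ring
  rw [h5] at h1
  push_cast at h1
  apply mul_left_cancel₀ (mul_ne_zero h4 h3)
  rw [h1]
  ring

theorem not_inConj_both {A B : Subgroup S} (hcop : (Nat.card A).Coprime (Nat.card B)) {y : S}
    (hA : InConj A y) (hB : InConj B y) : False := by
  obtain ⟨a, ha, ha1, hc⟩ := hA
  obtain ⟨b, hb, hb1, hd⟩ := hB
  have h1 : orderOf a ∣ Nat.card A := Subgroup.orderOf_dvd_natCard A ha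
  have h2 : orderOf b ∣ Nat.card B := Subgroup.orderOf_dvd_natCard B hb
  obtain ⟨c, hc⟩ := isConj_iff.1 (hc.trans hd.symm)
  have h3 : orderOf b = orderOf a := by
    rw [← hc]
    have := orderOf_injective (MulAut.conj c).toMonoidHom (MulAut.conj c).injective a
    simpa using this
  rw [h3] at h2
  exact ha1 (orderOf_eq_one_iff.1 (Nat.eq_one_of_dvd_coprimes hcop h1 h2))

/-- Three CC-subgroups. -/
theorem card_Ov_ge [Fintype (IrrCharacter Q)] (hs : Function.Surjective π) (hc : π.ker ≤ Subgroup.center Q)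
    {A B C : Subgroup S} [IsCyclic A] [IsCyclic B] [IsCyclic C] (hA : IsCC A) (hB : IsCC B) (hC : IsCC C)
    (hAB : (Nat.card A).Coprime (Nat.card B)) (hAC : (Nat.card A).Coprime (Nat.card C))
    (hBC : (Nat.card B).Coprime (Nat.card C)) {a b c : ℕ} (ha : a * len A + 1 = Nat.card A)
    (hb : b * len B + 1 = Nat.card B) (hc' : c * len C + 1 = Nat.card C) : 1 + a + b + c ≤ (Ov l).card := by
  classical
  have hfS : Finite S := Finite.of_surjective π hs
  have := Fintype.ofFinite S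
  let U : Subgroup S → Finset S := fun A => Finset.univ.filter (fun y : S => InConj A y)
  have hdis : ∀ A B : Subgroup S, (Nat.card A).Coprime (Nat.card B) → Disjoint (U A) (U B) := by
    intro A B h
    rw [Finset.disjoint_left]
    intro y h1 h2
    exact not_inConj_both h (Finset.mem_filter.1 h1).2 (Finset.mem_filter.1 h2).2
  have hone : ∀ A : Subgroup S, Disjoint {(1 : S)} (U A) := by
    intro A
    rw [Finset.disjoint_singleton_left]
    intro h
    exact one_not_inConj A (Finset.mem_filter.1 h).2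
  have h1 : ∑ y ∈ (({(1 : S)} ∪ U A) ∪ U B) ∪ U C, Gn l hs y ≤ ∑ y, Gn l hs y :=
    Finset.sum_le_sum_of_subset_of_nonneg (Finset.subset_univ _) fun y _ _ => Gn_nonneg l hs y
  rw [Finset.sum_union, Finset.sum_union, Finset.sum_union, Finset.sum_singleton, Gn_one l hs hc,
    sum_cc l hs hc hA ha, sum_cc l hs hc hB hb, sum_cc l hs hc hC hc', ← card_Ov_mul l hs] at h1
  · have h2 : (0 : ℝ) < Nat.card S := Nat.cast_pos.2 Nat.card_pos
    have h3 : ((1 + a + b + c : ℕ) : ℝ) * Nat.card S ≤ (Ov l).card * Nat.card S := by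
      push_cast
      linarith only [h1]
    exact_mod_cast le_of_mul_le_mul_right h3 h2
  · exact hone A
  · rw [Finset.disjoint_union_left]
    exact ⟨hone B, hdis A B hAB⟩
  · rw [Finset.disjoint_union_left, Finset.disjoint_union_left]
    exact ⟨⟨hone C, hdis A C hAC⟩, hdis B C hBC⟩

/-- **Some degree over `l` is divisible by the order of the CC-subgroup `A`**, if the CC-subgroups contribute
more than `|A|`. -/
theorem exists_dvd (hs : Function.Surjective π) (hc : π.ker ≤ Subgroup.center Q)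
    {A B C : Subgroup S} [IsCyclic A] [IsCyclic B] [IsCyclic C] (hA : IsCC A) (hB : IsCC B) (hC : IsCC C)
    (hAB : (Nat.card A).Coprime (Nat.card B)) (hAC : (Nat.card A).Coprime (Nat.card C))
    (hBC : (Nat.card B).Coprime (Nat.card C)) {a b c : ℕ} (ha : a * len A + 1 = Nat.card A)
    (hb : b * len B + 1 = Nat.card B) (hc' : c * len C + 1 = Nat.card C) (hlt : Nat.card A < 1 + a + b + c) :
    ∃ β : IrrCharacter Q, Over π l (β : Q → ℂ) ∧ Nat.card A ∣ charDegree (β : Q → ℂ) := by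
  have := finite_irr (G := Q)
  have := Fintype.ofFinite (IrrCharacter Q)
  by_contra hcon
  push Not at hcon
  have h1 := card_Ov_le l hs hc hA (fun β hβ => hcon β ((mem_Ov l).1 hβ))
  have h2 := card_Ov_ge l hs hc hA hB hC hAB hAC hBC ha hb hc'
  omega

end Cfsg.Agent.H404.SzPaw
end

-- part: H404/SzPaw/Hit
section
/-!
# Ratios of degrees above a simple group

If no proper subgroup of `S` has index prime to `a` and `b`, and some degree over every linear character of a central
kernel is divisible by `a`, then `Hit {a, b} S`.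
-/

set_option autoImplicit false
set_option linter.unusedSectionVars false

namespace Cfsg.Agent.H404.SzPaw

open Cfsg
open scoped ComplexConjugate
open Cfsg.Agent.Characters.Core
open Cfsg.Agent.H595.Count Cfsg.Agent.H595.Central Cfsg.Agent.H595.Triple
open Cfsg.Agent.H525.L2

universe u v

section

variable {X : Type u} [Group X] [Finite X] (M : Subgroup X) [hM : M.Normal] [Fintype M] (θ : IrrCharacter M)

/-- The characters over the linear character of the central extension attached to `θ` and its inertia group. -/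
theorem exists_cover : ∃ T : Subgroup X, M ≤ T ∧
    (∀ g : X, g ∈ T ↔ ∀ n : M, (θ : M → ℂ) ⟨g * n * g⁻¹, hM.conj_mem (n : X) n.2 g⟩ = (θ : M → ℂ) n) ∧
    ∃ (Q : Type u) (_ : Group Q) (_ : Finite Q) (π : Q →* T ⧸ M.subgroupOf T) (l : π.ker →* ℂˣ),
      Function.Surjective π ∧ π.ker ≤ Subgroup.center Q ∧
      ∀ β : IrrCharacter Q, Over π l (β : Q → ℂ) →
        ∃ χ : IrrCharacter X, classInner (fun m : M => (χ : X → ℂ) m) (θ : M → ℂ) ≠ 0 ∧
          charDegree (χ : X → ℂ) = (T.index * charDegree (β : Q → ℂ)) * charDegree (θ : M → ℂ) := by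
  classical
  have := Fintype.ofFinite X
  set T := Cfsg.Agent.H672.inertia M (θ : M → ℂ) with hTdef
  have := Fintype.ofFinite T
  have hT : ∀ g : X, g ∈ T ↔ ∀ n : M, (θ : M → ℂ) ⟨g * n * g⁻¹, hM.conj_mem (n : X) n.2 g⟩ =
      (θ : M → ℂ) n := fun g => Cfsg.Agent.H672.mem_inertia_iff
  have hMT : M ≤ T := Cfsg.Agent.H672.le_inertia (isIrr_isClassFunction θ.2)
  let N : Subgroup T := M.subgroupOf T
  let eN : N ≃* M := Subgroup.subgroupOfEquivOfLe hMT
  let θ' : IrrCharacter N := ⟨(θ : M → ℂ) ∘ eN, isIrr_comp eN.toMonoidHom eN.surjective θ.2⟩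
  have hinv : CInv N (θ' : N → ℂ) := by
    intro x n
    exact (hT x).1 x.2 (eN n)
  obtain ⟨Q, hg, hfin, π, l, hs, hc, hl, H⟩ := exists_red N θ' hinv
  refine ⟨T, hMT, hT, Q, hg, hfin, π, l, hs, hc, fun β hβ => ?_⟩
  obtain ⟨ψ, hψ⟩ := H β hβ
  have hψ' : ∀ m : M, (ψ : T → ℂ) ⟨m, hMT m.2⟩ =
      (charDegree (β : Q → ℂ) : ℂ) * (θ : M → ℂ) m := by
    intro m
    have := hψ ⟨⟨m, hMT m.2⟩, m.2⟩
    rw [(deg_spec β.2).1] at this
    exact this
  obtain ⟨h1, h2, h3⟩ := over_ind M θ.2 T hT hMT ψ.2 (deg_spec β.2).2.ne' hψ'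
  refine ⟨⟨_, h1⟩, h3, ?_⟩
  have h4 := hψ' 1
  have h5 : (⟨((1 : M) : X), hMT (1 : M).2⟩ : T) = 1 := rfl
  rw [h5, (deg_spec θ.2).1] at h4
  rw [h4, (deg_spec h1).1] at h2
  have h6 : charDegree (indFun T (ψ : T → ℂ)) =
      T.index * (charDegree (β : Q → ℂ) * charDegree (θ : M → ℂ)) := by exact_mod_cast h2
  rw [mul_assoc]
  exact h6

end

/-- The image of a subgroup between `M` and `X` in the quotient. -/
theorem exists_image {X : Type u} [Group X] (M : Subgroup X) [hM : M.Normal] {S : Type v} [Group S]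
    (e : X ⧸ M ≃* S) (T : Subgroup X) (hMT : M ≤ T) :
    ∃ H : Subgroup S, H.index = T.index ∧ Nonempty (T ⧸ M.subgroupOf T ≃* H) := by
  let f : X →* S := e.toMonoidHom.comp (QuotientGroup.mk' M)
  have hf : Function.Surjective f := e.surjective.comp (QuotientGroup.mk'_surjective M)
  have hker : f.ker = M := by
    ext x
    rw [MonoidHom.mem_ker]
    show e ((x : X) : X ⧸ M) = 1 ↔ _
    rw [e.map_eq_one_iff, QuotientGroup.eq_one_iff]
  refine ⟨T.map f, ?_, ?_⟩
  · exact Subgroup.index_map_eq T hf (hker.le.trans hMT)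
  · let g : T →* T.map f := f.subgroupMap T
    have hg : g.ker = M.subgroupOf T := by
      ext x
      rw [MonoidHom.mem_ker, Subgroup.mem_subgroupOf, ← hker, MonoidHom.mem_ker]
      exact Subtype.ext_iff
    exact ⟨(QuotientGroup.quotientMulEquivOfEq hg.symm).trans
      (QuotientGroup.quotientKerEquivOfSurjective g (f.subgroupMap_surjective T))⟩

/-- **The criterion for `Hit`.** -/
theorem hit {S : Type v} [Group S] [Finite S] {a b : ℕ}
    (hInd : ∀ H : Subgroup S, ¬ a ∣ H.index → ¬ b ∣ H.index → H = ⊤)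
    (hEx : ∀ (Q : Type u) [Group Q] [Finite Q] (π : Q →* S) (l : π.ker →* ℂˣ), Function.Surjective π →
      π.ker ≤ Subgroup.center Q → ∃ β : IrrCharacter Q, Over π l (β : Q → ℂ) ∧ a ∣ charDegree (β : Q → ℂ)) :
    Cfsg.Agent.H670.Reg.Hit.{u, v} {a, b} S := by
  intro X _ _ M _ _ hS θ
  obtain ⟨e⟩ := hS
  obtain ⟨T, hMT, -, Q, hg, hfin, π, l, hs, hc, H⟩ := exists_cover M θ
  obtain ⟨K, hK, ⟨eK⟩⟩ := exists_image M e T hMT
  obtain ⟨β0, hβ0⟩ := exists_over l hs hc
  by_cases ha : a ∣ T.index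
  · obtain ⟨χ, h1, h2⟩ := H β0 hβ0
    exact ⟨χ, h1, _, a, Or.inl rfl, dvd_mul_of_dvd_left ha _, h2⟩
  by_cases hb : b ∣ T.index
  · obtain ⟨χ, h1, h2⟩ := H β0 hβ0
    exact ⟨χ, h1, _, b, Or.inr rfl, dvd_mul_of_dvd_left hb _, h2⟩
  have hKt : K = ⊤ := hInd K (by rwa [hK]) (by rwa [hK])
  subst hKt
  let e' : T ⧸ M.subgroupOf T ≃* S := eK.trans Subgroup.topEquiv
  let π' : Q →* S := e'.toMonoidHom.comp π
  have hk : ∀ z : Q, z ∈ π'.ker ↔ z ∈ π.ker := by
    intro z
    rw [MonoidHom.mem_ker, MonoidHom.mem_ker]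
    exact e'.map_eq_one_iff
  let l' : π'.ker →* ℂˣ := l.comp (Subgroup.inclusion (fun z hz => (hk z).1 hz))
  obtain ⟨β, hβ, hd⟩ := hEx Q π' l' (e'.surjective.comp hs) (fun z hz => hc ((hk z).1 hz))
  obtain ⟨χ, h1, h2⟩ := H β (fun x z => hβ x ⟨z, (hk z).2 z.2⟩)
  exact ⟨χ, h1, _, a, Or.inl rfl, dvd_mul_of_dvd_right hd _, h2⟩

end Cfsg.Agent.H404.SzPaw
end

-- part: H404/SzPaw/Index
section
/-!
# Subgroups containing Sylow subgroups of prime order

`T` a Sylow subgroup of `S` of prime order `p` with `|N_S(T)| = e p`: a subgroup `H` of `S` of index prime to `p` has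
order `n t p`, `n ≡ 1 mod p`, `t ∣ e`.
-/

set_option autoImplicit false
set_option linter.unusedSectionVars false

namespace Cfsg.Agent.H404.SzPaw

open Cfsg

universe v

variable {S : Type v} [Group S] [Finite S]

theorem card_normalizer_conj (A B : Subgroup S) (g : S) (h : B = A.map (MulAut.conj g).toMonoidHom) :
    Nat.card (Subgroup.normalizer (B : Set S)) = Nat.card (Subgroup.normalizer (A : Set S)) := by
  have h1 : Subgroup.normalizer (B : Set S) =
      (Subgroup.normalizer (A : Set S)).map (MulAut.conj g).toMonoidHom := by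
    rw [h]
    exact (Subgroup.map_equiv_normalizer_eq A (MulAut.conj g)).symm
  rw [h1]
  exact (Nat.card_congr ((Subgroup.normalizer (A : Set S)).equivMapOfInjective _
    (MulAut.conj g).injective).toEquiv).symm

theorem sylow_count {p : ℕ} (hp : p.Prime) {T : Subgroup S} (hT : Nat.card T = p) (hidx : ¬ p ∣ T.index) {e : ℕ}
    (he : Nat.card (Subgroup.normalizer (T : Set S)) = e * p) (H : Subgroup S) (hH : ¬ p ∣ H.index) :
    ∃ n t : ℕ, Nat.card H = n * (t * p) ∧ n % p = 1 ∧ t ∣ e := by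
  classical
  have : Fact p.Prime := ⟨hp⟩
  have hpd : p ∣ Nat.card S := by
    rw [← hT]
    exact Subgroup.card_subgroup_dvd_card T
  have hp2 : ¬ p ^ 2 ∣ Nat.card S := by
    intro h
    rw [← T.card_mul_index, hT, pow_two] at h
    exact hidx (Nat.dvd_of_mul_dvd_mul_left hp.pos h)
  have hpH : p ∣ Nat.card H := by
    rw [← H.card_mul_index] at hpd
    exact ((Nat.Prime.dvd_mul hp).1 hpd).resolve_right hH
  obtain ⟨P⟩ : Nonempty (Sylow p H) := inferInstance
  -- the order of `P`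
  have hcop : ¬ p ∣ P.index := P.not_dvd_index
  have hPpow : ∃ k, Nat.card P = p ^ k := P.isPGroup'.exists_card_eq
  have hPdvd : Nat.card P ∣ Nat.card S :=
    (Subgroup.card_subgroup_dvd_card (P : Subgroup H)).trans (Subgroup.card_subgroup_dvd_card H)
  have hPcard : Nat.card P = p := by
    obtain ⟨k, hk⟩ := hPpow
    have h1 : k ≠ 0 := by
      rintro rfl
      rw [pow_zero] at hk
      have h2 := (P : Subgroup H).card_mul_index
      rw [← h2] at hpH
      have h3 : Nat.card (P : Subgroup H) = 1 := hk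
      rw [h3, one_mul] at hpH
      exact hcop hpH
    have h2 : k < 2 := by
      by_contra h
      apply hp2
      exact (pow_dvd_pow p (not_lt.1 h)).trans (hk ▸ hPdvd)
    have h3 : k = 1 := by omega
    rw [hk, h3, pow_one]
  let P' : Subgroup S := (P : Subgroup H).map H.subtype
  have hP' : Nat.card P' = p := by
    rw [← hPcard]
    exact (Nat.card_congr ((P : Subgroup H).equivMapOfInjective _ H.subtype_injective).toEquiv).symm
  -- Sylow subgroups of `S`
  have hsyl : ∀ A : Subgroup S, Nat.card A = p → ∃ R : Sylow p S, (R : Subgroup S) = A := by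
    intro A hA
    have h1 : IsPGroup p A := IsPGroup.of_card (n := 1) (by rw [hA, pow_one])
    obtain ⟨R, hR⟩ := h1.exists_le_sylow
    refine ⟨R, ?_⟩
    obtain ⟨k, hk⟩ := R.isPGroup'.exists_card_eq
    have h2 : Nat.card R ∣ Nat.card S := Subgroup.card_subgroup_dvd_card (R : Subgroup S)
    have h3 : k < 2 := by
      by_contra h
      apply hp2
      exact (pow_dvd_pow p (not_lt.1 h)).trans (hk ▸ h2)
    symm
    apply Subgroup.eq_of_le_of_card_ge hR
    rw [hA]
    have h4 : Nat.card R = p ^ k := hk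
    rw [h4]
    calc p ^ k ≤ p ^ 1 := Nat.pow_le_pow_right hp.pos (by omega)
      _ = p := pow_one p
  obtain ⟨R, hR⟩ := hsyl T hT
  obtain ⟨R', hR'⟩ := hsyl P' hP'
  obtain ⟨g, hg⟩ := MulAction.exists_smul_eq S R R'
  have hconj : P' = T.map (MulAut.conj g).toMonoidHom := by
    rw [← hR', ← hg, ← hR]
    rfl
  have hN : Nat.card (Subgroup.normalizer (P' : Set S)) = e * p := by
    rw [card_normalizer_conj T P' g hconj, he]
  -- the normalizer in `H`
  let N : Subgroup H := Subgroup.normalizer ((P : Subgroup H) : Set H)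
  have hNdvd : Nat.card N ∣ e * p := by
    rw [← hN]
    have h1 : N.map H.subtype ≤ Subgroup.normalizer (P' : Set S) := by
      rintro _ ⟨x, hx, rfl⟩
      rw [Subgroup.mem_normalizer_iff]
      intro y
      constructor
      · rintro ⟨z, hz, rfl⟩
        exact ⟨x * z * x⁻¹, (Subgroup.mem_normalizer_iff.1 hx z).1 hz, rfl⟩
      · rintro ⟨z, hz, hzy⟩
        have h2 : (x⁻¹ * z * x : H) ∈ (P : Subgroup H) := by
          have h3 := (Subgroup.mem_normalizer_iff.1 hx (x⁻¹ * z * x)).2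
          apply h3
          have h4 : x * (x⁻¹ * z * x) * x⁻¹ = z := by group
          rw [h4]
          exact hz
        refine ⟨x⁻¹ * z * x, h2, ?_⟩
        have h5 : (z : S) = x * y * (x : S)⁻¹ := hzy
        show (x : S)⁻¹ * z * x = y
        rw [h5]
        group
    have h2 := Subgroup.card_dvd_of_le h1
    rwa [show Nat.card (N.map H.subtype) = Nat.card N from
      (Nat.card_congr (N.equivMapOfInjective _ H.subtype_injective).toEquiv).symm] at h2
  have hPN : p ∣ Nat.card N := by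
    rw [← hPcard]
    exact Subgroup.card_dvd_of_le Subgroup.le_normalizer
  obtain ⟨t, ht⟩ := hPN
  refine ⟨Nat.card (Sylow p H), t, ?_, ?_, ?_⟩
  · have h1 : Nat.card (Sylow p H) = N.index := P.card_eq_index_normalizer
    rw [h1, mul_comm t p, ← ht, mul_comm, N.card_mul_index]
  · have h1 := card_sylow_modEq_one p H
    have h2 : Nat.card (Sylow p H) % p = 1 % p := h1
    rw [h2, Nat.mod_eq_of_lt hp.one_lt]
  · rw [ht, mul_comm p t] at hNdvd
    exact Nat.dvd_of_mul_dvd_mul_right hp.pos hNdvd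

set_option synthInstance.maxHeartbeats 400000 in
set_option synthInstance.maxSize 1024 in
set_option maxRecDepth 20000 in
theorem ar8 : ∀ i < 7, ∀ k < 2, ∀ t ∈ ({1, 2} : Finset ℕ), ∀ s ∈ ({1, 2, 4} : Finset ℕ),
    (29120 / (2 ^ i * 5 ^ k)) % (t * 7) = 0 → (29120 / (2 ^ i * 5 ^ k)) / (t * 7) % 7 = 1 →
    (29120 / (2 ^ i * 5 ^ k)) % (s * 13) = 0 → (29120 / (2 ^ i * 5 ^ k)) / (s * 13) % 13 = 1 →
    i < 2 ∧ k = 0 := by
  decide +kernel

set_option synthInstance.maxHeartbeats 400000 in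
set_option synthInstance.maxSize 1024 in
set_option maxRecDepth 20000 in
theorem ar32 : ∀ i < 11, ∀ k < 3, ∀ t ∈ ({1, 2} : Finset ℕ), ∀ s ∈ ({1, 2, 4} : Finset ℕ),
    (32537600 / (2 ^ i * 5 ^ k)) % (t * 31) = 0 → (32537600 / (2 ^ i * 5 ^ k)) / (t * 31) % 31 = 1 →
    (32537600 / (2 ^ i * 5 ^ k)) % (s * 41) = 0 → (32537600 / (2 ^ i * 5 ^ k)) / (s * 41) % 41 = 1 →
    i < 2 ∧ k = 0 := by
  decide +kernel

theorem index_le_two {a b x y : ℕ} (ha : a.Prime) (hb : b.Prime) (hab : a ≠ b) (h2a : a ≠ 2) (h5a : a ≠ 5)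
    (h2b : b ≠ 2) (h5b : b ≠ 5)
    (hcard : Nat.card S = 2 ^ x * 5 ^ y * (a * b)) {T A : Subgroup S} (hT : Nat.card T = a) (hA : Nat.card A = b)
    (hNT : Nat.card (Subgroup.normalizer (T : Set S)) = 2 * a)
    (hNA : Nat.card (Subgroup.normalizer (A : Set S)) = 4 * b)
    (har : ∀ i < x + 1, ∀ k < y + 1, ∀ t ∈ ({1, 2} : Finset ℕ), ∀ s ∈ ({1, 2, 4} : Finset ℕ),
      (Nat.card S / (2 ^ i * 5 ^ k)) % (t * a) = 0 → (Nat.card S / (2 ^ i * 5 ^ k)) / (t * a) % a = 1 →
      (Nat.card S / (2 ^ i * 5 ^ k)) % (s * b) = 0 → (Nat.card S / (2 ^ i * 5 ^ k)) / (s * b) % b = 1 →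
      i < 2 ∧ k = 0)
    (H : Subgroup S) (hHa : ¬ a ∣ H.index) (hHb : ¬ b ∣ H.index) : H.index ≤ 2 := by
  have hcop : ∀ p : ℕ, p.Prime → p ≠ 2 → p ≠ 5 → (p.Coprime (2 ^ x * 5 ^ y)) := by
    intro p hp h2 h5
    exact Nat.Coprime.mul_right (Nat.Coprime.pow_right _ ((Nat.coprime_primes hp Nat.prime_two).2 h2))
      (Nat.Coprime.pow_right _ ((Nat.coprime_primes hp Nat.prime_five).2 h5))
  have hTi : ¬ a ∣ T.index := by
    intro h
    have h1 := T.card_mul_index
    rw [hT, hcard, mul_left_comm] at h1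
    have h2 := Nat.eq_of_mul_eq_mul_left ha.pos h1
    rw [h2] at h
    rcases (Nat.Prime.dvd_mul ha).1 h with h | h
    · exact (Nat.Prime.coprime_iff_not_dvd ha).1 (hcop a ha h2a h5a) h
    · exact hab ((Nat.prime_dvd_prime_iff_eq ha hb).1 h)
  have hAi : ¬ b ∣ A.index := by
    intro h
    have h1 := A.card_mul_index
    rw [hA, hcard, mul_comm a b, mul_left_comm] at h1
    have h2 := Nat.eq_of_mul_eq_mul_left hb.pos h1
    rw [h2] at h
    rcases (Nat.Prime.dvd_mul hb).1 h with h | h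
    · exact (Nat.Prime.coprime_iff_not_dvd hb).1 (hcop b hb h2b h5b) h
    · exact hab ((Nat.prime_dvd_prime_iff_eq hb ha).1 h).symm
  obtain ⟨n, t, h1, h2, h3⟩ := sylow_count ha hT hTi hNT H hHa
  obtain ⟨n', s, h4, h5, h6⟩ := sylow_count hb hA hAi hNA H hHb
  have hidx : H.index ∣ 2 ^ x * 5 ^ y := by
    have h7 : H.index ∣ 2 ^ x * 5 ^ y * (a * b) := hcard ▸ H.index_dvd_card
    refine Nat.Coprime.dvd_of_dvd_mul_right ?_ h7
    exact Nat.Coprime.mul_right ((Nat.Prime.coprime_iff_not_dvd ha).2 hHa).symm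
      ((Nat.Prime.coprime_iff_not_dvd hb).2 hHb).symm
  obtain ⟨c, d, hc, hd, hcd⟩ := (Nat.dvd_mul).1 hidx
  obtain ⟨i, hi, rfl⟩ := (Nat.dvd_prime_pow Nat.prime_two).1 hc
  obtain ⟨k, hk, rfl⟩ := (Nat.dvd_prime_pow Nat.prime_five).1 hd
  have hpos : 0 < 2 ^ i * 5 ^ k := by positivity
  have hH : Nat.card S / (2 ^ i * 5 ^ k) = Nat.card H := by
    rw [hcd, ← H.card_mul_index]
    exact Nat.mul_div_cancel _ (hcd ▸ hpos)
  have ht : t ∈ ({1, 2} : Finset ℕ) := by
    rcases (Nat.dvd_prime Nat.prime_two).1 h3 with h | h <;> simp [h]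
  have hs : s ∈ ({1, 2, 4} : Finset ℕ) := by
    obtain ⟨j, hj, rfl⟩ := (Nat.dvd_prime_pow Nat.prime_two (m := 2)).1 h6
    interval_cases j <;> simp only [_root_.pow_zero, _root_.Finset.mem_insert, _root_.OfNat.one_ne_ofNat, _root_.Finset.mem_singleton, _root_.or_self, _root_.or_false, _root_.pow_one, _root_.OfNat.ofNat_ne_one, _root_.Nat.reduceEqDiff, _root_.or_true, _root_.Nat.reducePow]
  have hn : 0 < n := by
    rcases Nat.eq_zero_or_pos n with h | h
    · rw [h, zero_mul] at h1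
      exact absurd h1 Nat.card_pos.ne'
    · exact h
  have key := har i (Nat.lt_succ_of_le hi) k (Nat.lt_succ_of_le hk) t ht s hs
  rw [hH] at key
  have ht0 : 0 < t * a := by
    rcases Nat.eq_zero_or_pos (t * a) with h | h
    · rw [h, mul_zero] at h1
      exact absurd h1 Nat.card_pos.ne'
    · exact h
  have hs0 : 0 < s * b := by
    rcases Nat.eq_zero_or_pos (s * b) with h | h
    · rw [h, mul_zero] at h4
      exact absurd h4 Nat.card_pos.ne'
    · exact h
  have e1 : Nat.card H % (t * a) = 0 := by rw [h1]; exact Nat.mul_mod_left _ _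
  have e2 : Nat.card H / (t * a) % a = 1 := by rw [h1, Nat.mul_div_cancel _ ht0]; exact h2
  have e3 : Nat.card H % (s * b) = 0 := by rw [h4]; exact Nat.mul_mod_left _ _
  have e4 : Nat.card H / (s * b) % b = 1 := by rw [h4, Nat.mul_div_cancel _ hs0]; exact h5
  obtain ⟨hi2, hk0⟩ := key e1 e2 e3 e4
  rw [← hcd, hk0, pow_zero, mul_one]
  interval_cases i <;> norm_num

theorem eq_top_of_index [IsSimpleGroup S] (h4 : 2 < Nat.card S) {H : Subgroup S} (h : H.index ≤ 2) : H = ⊤ := by
  have h0 : H.index ≠ 0 := Subgroup.index_ne_zero_of_finite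
  have h1 : H.index = 1 ∨ H.index = 2 := by omega
  rcases h1 with h1 | h1
  · exact Subgroup.index_eq_one.1 h1
  · have hn : H.Normal := Subgroup.normal_of_index_eq_two h1
    rcases hn.eq_bot_or_eq_top with h2 | h2
    · rw [h2, Subgroup.index_bot] at h1
      omega
    · exact h2

/-- No proper subgroup of `Sz(8)` has index prime to `7` and `13`. -/
theorem ind8 [IsSimpleGroup S] (hcard : Nat.card S = 29120) {T A : Subgroup S} (hT : Nat.card T = 7)
    (hA : Nat.card A = 13) (hNT : Nat.card (Subgroup.normalizer (T : Set S)) = 2 * 7)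
    (hNA : Nat.card (Subgroup.normalizer (A : Set S)) = 4 * 13) (H : Subgroup S) (hHa : ¬ 7 ∣ H.index)
    (hHb : ¬ 13 ∣ H.index) : H = ⊤ := by
  refine eq_top_of_index (by omega) (index_le_two (x := 6) (y := 1) (by norm_num) (by norm_num) (by norm_num)
    (by norm_num) (by norm_num) (by norm_num) (by norm_num) (by rw [hcard]; norm_num) hT hA hNT hNA ?_ H hHa hHb)
  rw [hcard]
  exact ar8

/-- No proper subgroup of `Sz(32)` has index prime to `31` and `41`. -/
theorem ind32 [IsSimpleGroup S] (hcard : Nat.card S = 32537600) {T A : Subgroup S} (hT : Nat.card T = 31)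
    (hA : Nat.card A = 41) (hNT : Nat.card (Subgroup.normalizer (T : Set S)) = 2 * 31)
    (hNA : Nat.card (Subgroup.normalizer (A : Set S)) = 4 * 41) (H : Subgroup S) (hHa : ¬ 31 ∣ H.index)
    (hHb : ¬ 41 ∣ H.index) : H = ⊤ := by
  refine eq_top_of_index (by omega) (index_le_two (x := 10) (y := 2) (by norm_num) (by norm_num) (by norm_num)
    (by norm_num) (by norm_num) (by norm_num) (by norm_num) (by rw [hcard]; norm_num) hT hA hNT hNA ?_ H hHa hHb)
  rw [hcard]
  exact ar32

end Cfsg.Agent.H404.SzPaw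
end

-- part: H404/SzPaw/Tori
section
/-!
# The tori of the Suzuki groups
-/

set_option autoImplicit false
set_option linter.unusedSectionVars false

namespace Cfsg.Agent.H404.SzPaw

open Cfsg MulAction
open scoped ComplexConjugate
open Cfsg.Agent.Characters.CCBasic Cfsg.Agent.Characters.CCEstimates
open Cfsg.Agent.H525.L2 Cfsg.Agent.H678 Cfsg.Agent.H355.SzFix

universe u v

/-- The three tori of a Suzuki group over a field of order `q`, `r = √(2q)`. -/
structure Tori (S : Type v) [Group S] (T A B : Subgroup S) (q r : ℕ) : Prop where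
  cyT : IsCyclic T
  cyA : IsCyclic A
  cyB : IsCyclic B
  ccT : IsCC T
  ccA : IsCC A
  ccB : IsCC B
  lT : len T = 2
  lA : len A = 4
  lB : len B = 4
  kT : Nat.card T + 1 = q
  kA : Nat.card A = q + r + 1
  kB : Nat.card B + r = q + 1
  kS : Nat.card S = q ^ 2 * (q ^ 2 + 1) * (q - 1)

theorem exists_tori {F : Type u} [Field F] [Fintype F] {m : ℕ} (hm : 1 ≤ m)
    (hF : Fintype.card F = 2 ^ (2 * m + 1)) :
    ∃ T A B : Subgroup (Sz F m), Tori (Sz F m) T A B (2 ^ (2 * m + 1)) (2 ^ (m + 1)) := by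
  classical
  have : Fintype (Sz F m) := Fintype.ofFinite _
  have hq8 : 8 ≤ 2 ^ (2 * m + 1) := by
    calc 8 = 2 ^ 3 := by norm_num
      _ ≤ 2 ^ (2 * m + 1) := Nat.pow_le_pow_right (by norm_num) (by omega)
  have hXcard : Nat.card (suzukiOvoid F m) = (2 ^ (2 * m + 1)) ^ 2 + 1 := by
    rw [S0326.result, hF]
  have : Finite (suzukiOvoid F m) := Nat.finite_of_card_ne_zero (by rw [hXcard]; omega)
  obtain ⟨-, h2, h3, -, -⟩ := S0327.result hm hF
  have hXodd : Odd (Nat.card (suzukiOvoid F m)) := by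
    rw [hXcard]
    refine Even.add_one (Even.pow_of_ne_zero ?_ (by norm_num))
    exact (even_two).pow_of_ne_zero (by omega)
  have hxy : inf F m ≠ zer F m := inf_ne_zer
  set T := (stabilizer (Sz F m) (inf F m) ⊓ stabilizer (Sz F m) (zer F m) :
    Subgroup (Sz F m)) with hT
  obtain ⟨eT⟩ : Nonempty (T ≃* Fˣ) := by
    rw [hT, SuzDegs.T_eq]
    exact S0328.result hm hF
  have cT : Nat.card T + 1 = 2 ^ (2 * m + 1) := by
    rw [Nat.card_congr eT.toEquiv, Nat.card_eq_fintype_card, Fintype.card_units, hF]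
    omega
  have hTodd : Odd (Nat.card T) := by
    have h : Even (2 ^ (2 * m + 1)) := (even_two).pow_of_ne_zero (by omega)
    rw [← cT] at h
    exact Nat.even_add_one.1 h |> Nat.not_even_iff_odd.1
  have hTne : T ≠ ⊥ := by
    intro h
    rw [h, Subgroup.card_bot] at cT
    omega
  have hTcomm : ∀ a ∈ T, ∀ b ∈ T, a * b = b * a := by
    intro a ha b hb
    have h : (⟨a, ha⟩ : T) * ⟨b, hb⟩ = ⟨b, hb⟩ * ⟨a, ha⟩ := by
      apply eT.injective
      rw [map_mul, map_mul, mul_comm]
    exact congrArg Subtype.val h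
  have hTcc : IsCC T := ZassTorus.isCC h3 hxy hXodd h2 hTodd hTne hTcomm
  have hTlen : len T = 2 := ZassTorus.len_eq h3 hxy h2 hTne
  have hTcy : IsCyclic T := isCyclic_of_surjective eT.symm eT.symm.surjective
  have htor : ∀ c : ℕ, c ∈ ({2 ^ (2 * m + 1) + 2 ^ (m + 1) + 1,
      2 ^ (2 * m + 1) - 2 ^ (m + 1) + 1} : Set ℕ) → 2 ≤ c →
      ∃ U : Subgroup (Sz F m), IsCyclic U ∧ Nat.card U = c ∧ IsCC U ∧ len U = 4 := by
    intro c hc hc2
    obtain ⟨U, hcy, hU, hcent, hN⟩ := S0333.result hm hF c hc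
    refine ⟨U, hcy, hU, ⟨?_, hcent⟩, ?_⟩
    · rintro rfl
      rw [Subgroup.card_bot] at hU
      omega
    · rw [len, hN, hU, Nat.mul_div_cancel _ (by omega)]
  have hle : 2 * 2 ^ (m + 1) ≤ 2 ^ (2 * m + 1) := by
    rw [← pow_succ']
    exact Nat.pow_le_pow_right (by norm_num) (by omega)
  have hr4 : 4 ≤ 2 ^ (m + 1) := by
    calc 4 = 2 ^ 2 := by norm_num
      _ ≤ 2 ^ (m + 1) := Nat.pow_le_pow_right (by norm_num) (by omega)
  obtain ⟨A, cyA, cA, hAcc, hAlen⟩ := htor _ (Or.inl rfl) (by omega)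
  obtain ⟨B, cyB, cB, hBcc, hBlen⟩ := htor _ (Or.inr rfl) (by omega)
  exact ⟨T, A, B, hTcy, cyA, cyB, hTcc, hAcc, hBcc, hTlen, hAlen, hBlen, cT, cA, by omega,
    S0324.result hm hF⟩

variable {S : Type v} [Group S] [Finite S] {T A B : Subgroup S}

/-- Some degree over a linear character of a central kernel is divisible by `q - 1` (`q = 8`, `32`). -/
theorem Tori.exists_dvd {q r : ℕ} (D : Tori S T A B q r) {a b c : ℕ} (ha : 2 * a + 2 = q) (hb : 4 * b = q + r)
    (hc : 4 * c + r = q) (h1 : (q - 1).Coprime (q + r + 1)) (h2 : (q - 1).Coprime (q - r + 1))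
    (h3 : (q + r + 1).Coprime (q - r + 1)) (Q : Type u) [Group Q] [Finite Q] (π : Q →* S) (l : π.ker →* ℂˣ)
    (hs : Function.Surjective π) (hcen : π.ker ≤ Subgroup.center Q) :
    ∃ β : IrrCharacter Q, Over π l (β : Q → ℂ) ∧ q - 1 ∣ charDegree (β : Q → ℂ) := by
  have := D.cyT
  have := D.cyA
  have := D.cyB
  have kT : Nat.card T = q - 1 := by have := D.kT; (clear * - this; omega)
  have kB : Nat.card B = q - r + 1 := by have := D.kB; (clear * - hc this; omega)
  have h := SzPaw.exists_dvd l hs hcen D.ccT D.ccA D.ccB (by rw [kT, D.kA]; exact h1) (by rw [kT, kB]; exact h2)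
    (by rw [D.kA, kB]; exact h3) (a := a) (b := b) (c := c) (by rw [D.lT, kT]; (clear * - ha; omega)) (by rw [D.lA, D.kA]; omega)
    (by rw [D.lB, kB]; (clear * - hc; omega)) (by rw [kT]; omega)
  rwa [kT] at h

theorem Tori.card_normalizer_T {q r : ℕ} (D : Tori S T A B q r) :
    Nat.card (Subgroup.normalizer (T : Set S)) = 2 * (q - 1) := by
  have h := len_mul_card T
  have h1 := D.kT
  rw [D.lT] at h
  rw [← h]
  omega

theorem Tori.card_normalizer_A {q r : ℕ} (D : Tori S T A B q r) :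
    Nat.card (Subgroup.normalizer (A : Set S)) = 4 * (q + r + 1) := by
  have h := len_mul_card A
  rw [D.lA, D.kA] at h
  exact h.symm

/-- `Hit {7, 13}` for `Sz(8)`. -/
theorem hit8 [IsSimpleGroup S] (D : Tori S T A B 8 4) : Cfsg.Agent.H670.Reg.Hit.{u, v} {7, 13} S :=
  hit (ind8 (by rw [D.kS]; norm_num) (by have := D.kT; omega) D.kA D.card_normalizer_T D.card_normalizer_A)
    (D.exists_dvd (a := 3) (b := 3) (c := 1) (by norm_num) (by norm_num) (by norm_num) (by norm_num) (by norm_num)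
      (by norm_num))

/-- `Hit {31, 41}` for `Sz(32)`. -/
theorem hit32 [IsSimpleGroup S] (D : Tori S T A B 32 8) : Cfsg.Agent.H670.Reg.Hit.{u, v} {31, 41} S :=
  hit (ind32 (by rw [D.kS]; norm_num) (by have := D.kT; omega) D.kA D.card_normalizer_T D.card_normalizer_A)
    (D.exists_dvd (a := 15) (b := 10) (c := 6) (by norm_num) (by norm_num) (by norm_num) (by norm_num) (by norm_num)
      (by norm_num))

end Cfsg.Agent.H404.SzPaw
end

private theorem dce_9a9ec02e378c : _root_.True := by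
  try have : _root_.True := by simp only [_root_.Cfsg.Agent.H404.SzPaw.Gn.congr_simp]
  exact _root_.True.intro
end
end
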